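import Groth.Prelude.Def_EtTens2
import Groth.Agent.L27.EtSite.Points

/-! # Fibres of tensor products of presheaves of abelian groups -/

universe u

open CategoryTheory CategoryTheory.Limits AlgebraicGeometry Opposite TensorProduct

set_option backward.isDefEq.respectTransparency.types false
set_option linter.style.haveILetI false
set_option linter.unusedSectionVars false
set_option linter.unusedVariables false

namespace Groth.L27.TensorFibre

variable {X : Scheme.{u}} {Ω : Type u} [Field Ω] [IsSepClosed Ω] (η : Spec (CommRingCat.of Ω) ⟶ X)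
  (A B : X.Etaleᵒᵖ ⥤ AddCommGrpCat.{u + 1})

/-- The fibre of a presheaf. -/
noncomputable abbrev Fib (P : X.Etaleᵒᵖ ⥤ AddCommGrpCat.{u + 1}) : AddCommGrpCat.{u + 1} :=
  ((Scheme.pointSmallEtale η).presheafFiber (A := AddCommGrpCat.{u + 1})).obj P

/-- Germs. -/
noncomputable abbrev germ {P : X.Etaleᵒᵖ ⥤ AddCommGrpCat.{u + 1}} {V : X.Etale}
    (y : (Scheme.pointSmallEtale η).fiber.obj V) : P.obj (op V) →+ Fib η P :=
  ((Scheme.pointSmallEtale η).toPresheafFiber V y P).hom

theorem germ_map {P : X.Etaleᵒᵖ ⥤ AddCommGrpCat.{u + 1}} {V W : X.Etale} (g : W ⟶ V)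
    (z : (Scheme.pointSmallEtale η).fiber.obj W) (s : P.obj (op V)) :
    germ η z (P.map g.op s) = germ η ((Scheme.pointSmallEtale η).fiber.map g z) s :=
  GrothendieckTopology.Point.toPresheafFiber_w_apply _ _ _ _ _

/-- Two common refinements of two neighbourhoods are dominated by a third. -/
theorem exists_dominate {V W : X.Etale} {y : (Scheme.pointSmallEtale η).fiber.obj V}
    {z : (Scheme.pointSmallEtale η).fiber.obj W}
    (c c' : (Scheme.pointSmallEtale η).fiber.Elements)
    (p : c ⟶ Functor.elementsMk _ V y) (q : c ⟶ Functor.elementsMk _ W z)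
    (p' : c' ⟶ Functor.elementsMk _ V y) (q' : c' ⟶ Functor.elementsMk _ W z) :
    ∃ (d : (Scheme.pointSmallEtale η).fiber.Elements) (i : d ⟶ c) (j : d ⟶ c'),
      i ≫ p = j ≫ p' ∧ i ≫ q = j ≫ q' := by
  obtain ⟨d₀, i₀, j₀, -⟩ := IsCofilteredOrEmpty.cone_objs c c'
  obtain ⟨d₁, k₁, h₁⟩ := IsCofilteredOrEmpty.cone_maps (i₀ ≫ p) (j₀ ≫ p')
  obtain ⟨d₂, k₂, h₂⟩ := IsCofilteredOrEmpty.cone_maps (k₁ ≫ i₀ ≫ q) (k₁ ≫ j₀ ≫ q')
  refine ⟨d₂, k₂ ≫ k₁ ≫ i₀, k₂ ≫ k₁ ≫ j₀, ?_, ?_⟩
  · simp only [Category.assoc, h₁]
  · simpa only [Category.assoc] using h₂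

theorem exists_refine {V W : X.Etale} (y : (Scheme.pointSmallEtale η).fiber.obj V)
    (z : (Scheme.pointSmallEtale η).fiber.obj W) :
    ∃ (c : (Scheme.pointSmallEtale η).fiber.Elements),
      Nonempty (c ⟶ Functor.elementsMk _ V y) ∧ Nonempty (c ⟶ Functor.elementsMk _ W z) := by
  obtain ⟨c, p, q, -⟩ := IsCofilteredOrEmpty.cone_objs (Functor.elementsMk (Scheme.pointSmallEtale η).fiber V y)
    (Functor.elementsMk (Scheme.pointSmallEtale η).fiber W z)
  exact ⟨c, ⟨p⟩, ⟨q⟩⟩

/-- The product on a given refinement. -/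
noncomputable def prodAt {V W : X.Etale} (c : (Scheme.pointSmallEtale η).fiber.Elements) (i : c.1 ⟶ V) (j : c.1 ⟶ W)
    (a : A.obj (op V)) (b : B.obj (op W)) : Fib η (EtTens.tensorObj A B) :=
  germ η c.2 ((A.map i.op a : A.obj (op c.1)) ⊗ₜ[ℤ] (B.map j.op b : B.obj (op c.1)))

theorem prodAt_restrict {V W : X.Etale} {c d : (Scheme.pointSmallEtale η).fiber.Elements} (k : d ⟶ c)
    (i : c.1 ⟶ V) (j : c.1 ⟶ W) (a : A.obj (op V)) (b : B.obj (op W)) :
    prodAt η A B d (k.val ≫ i) (k.val ≫ j) a b = prodAt η A B c i j a b := by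
  rw [prodAt, prodAt, op_comp, Functor.map_comp_apply, op_comp, Functor.map_comp_apply]
  refine Eq.trans ?_ ((germ_map η (P := EtTens.tensorObj A B) k.val d.2 _).trans
    (congrArg (fun t => germ η (P := EtTens.tensorObj A B) t _) k.2))
  rw [EtTens.tensorObj_map_tmul]

/-- Product of two representatives. -/
noncomputable def prod₀ {V W : X.Etale} (y : (Scheme.pointSmallEtale η).fiber.obj V)
    (z : (Scheme.pointSmallEtale η).fiber.obj W) (a : A.obj (op V)) (b : B.obj (op W)) :
    Fib η (EtTens.tensorObj A B) :=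
  prodAt η A B (exists_refine η y z).choose (exists_refine η y z).choose_spec.1.some.val
    (exists_refine η y z).choose_spec.2.some.val a b

theorem prod₀_eq {V W : X.Etale} {y : (Scheme.pointSmallEtale η).fiber.obj V}
    {z : (Scheme.pointSmallEtale η).fiber.obj W} (c : (Scheme.pointSmallEtale η).fiber.Elements)
    (p : c ⟶ Functor.elementsMk _ V y) (q : c ⟶ Functor.elementsMk _ W z)
    (a : A.obj (op V)) (b : B.obj (op W)) :
    prod₀ η A B y z a b = prodAt η A B c p.val q.val a b := by
  obtain ⟨d, i, j, h₁, h₂⟩ := exists_dominate η _ c (exists_refine η y z).choose_spec.1.some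
    (exists_refine η y z).choose_spec.2.some p q
  refine (prodAt_restrict η A B i _ _ a b).symm.trans (Eq.trans ?_ (prodAt_restrict η A B j _ _ a b))
  rw [show i.val ≫ (exists_refine η y z).choose_spec.1.some.val = j.val ≫ p.val from congrArg (·.val) h₁,
    show i.val ≫ (exists_refine η y z).choose_spec.2.some.val = j.val ≫ q.val from congrArg (·.val) h₂]

/-- The product with a germ of the first factor. -/
noncomputable def mulRep {V : X.Etale} (y : (Scheme.pointSmallEtale η).fiber.obj V) (a : A.obj (op V)) :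
    Fib η B ⟶ Fib η (EtTens.tensorObj A B) :=
  (Scheme.pointSmallEtale η).presheafFiberDesc (P := B)
    (fun W z => AddCommGrpCat.ofHom (AddMonoidHom.mk' (prod₀ η A B y z a) fun b b' => by
      simp only [prod₀, prodAt, map_add, TensorProduct.tmul_add]
      exact map_add _ _ _))
    fun W' W g z => by
      refine ConcreteCategory.hom_ext _ _ fun b => ?_
      show prod₀ η A B y z a (B.map g.op b) = prod₀ η A B y ((Scheme.pointSmallEtale η).fiber.map g z) a b
      let c := (exists_refine η y z).choose
      let p := (exists_refine η y z).choose_spec.1.some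
      let q := (exists_refine η y z).choose_spec.2.some
      let g' : Functor.elementsMk _ W' z ⟶ Functor.elementsMk _ W ((Scheme.pointSmallEtale η).fiber.map g z) :=
        ⟨g, rfl⟩
      rw [prod₀_eq η A B c p q, prod₀_eq η A B c p (q ≫ g')]
      show prodAt η A B c p.val q.val a (B.map g.op b) = prodAt η A B c p.val (q.val ≫ g) a b
      rw [prodAt, prodAt, op_comp, Functor.map_comp_apply]

theorem mulRep_germ {V W : X.Etale} (y : (Scheme.pointSmallEtale η).fiber.obj V) (a : A.obj (op V))
    (z : (Scheme.pointSmallEtale η).fiber.obj W) (b : B.obj (op W)) :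
    mulRep η A B y a (germ η z b) = prod₀ η A B y z a b :=
  ConcreteCategory.congr_hom (GrothendieckTopology.Point.toPresheafFiber_presheafFiberDesc
    (Scheme.pointSmallEtale η) (P := B) _ _ W z) b

/-- The product of germs. -/
noncomputable def mulHom : Fib η A ⟶ AddCommGrpCat.of (Fib η B →+ Fib η (EtTens.tensorObj A B)) :=
  (Scheme.pointSmallEtale η).presheafFiberDesc (P := A)
    (fun V y => AddCommGrpCat.ofHom (AddMonoidHom.mk' (fun a => (mulRep η A B y a).hom) fun a a' => by
      refine AddMonoidHom.ext fun t => ?_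
      obtain ⟨W, z, b, rfl⟩ := (Scheme.pointSmallEtale η).toPresheafFiber_jointly_surjective t
      show mulRep η A B y (a + a') (germ η z b) = mulRep η A B y a (germ η z b) + mulRep η A B y a' (germ η z b)
      simp only [mulRep_germ, prod₀, prodAt, map_add, TensorProduct.add_tmul]
      exact map_add _ _ _))
    fun V' V g y => by
      refine ConcreteCategory.hom_ext _ _ fun a => AddMonoidHom.ext fun t => ?_
      obtain ⟨W, z, b, rfl⟩ := (Scheme.pointSmallEtale η).toPresheafFiber_jointly_surjective t
      show mulRep η A B y (A.map g.op a) (germ η z b) =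
        mulRep η A B ((Scheme.pointSmallEtale η).fiber.map g y) a (germ η z b)
      rw [mulRep_germ, mulRep_germ]
      let c := (exists_refine η y z).choose
      let p := (exists_refine η y z).choose_spec.1.some
      let q := (exists_refine η y z).choose_spec.2.some
      let g' : Functor.elementsMk _ V' y ⟶ Functor.elementsMk _ V ((Scheme.pointSmallEtale η).fiber.map g y) :=
        ⟨g, rfl⟩
      rw [prod₀_eq η A B c p q, prod₀_eq η A B c (p ≫ g') q]
      show prodAt η A B c p.val q.val (A.map g.op a) b = prodAt η A B c (p.val ≫ g) q.val a b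
      rw [prodAt, prodAt, op_comp, Functor.map_comp_apply]

/-- The product, on the tensor product of the fibres. -/
noncomputable def mul : Fib η A ⊗[ℤ] Fib η B →+ Fib η (EtTens.tensorObj A B) :=
  TensorProduct.liftAddHom (mulHom η A B).hom fun r p t =>
    (map_zsmul ((mulHom η A B).hom p) r t).symm ▸ (congrArg (fun φ : Fib η B →+ _ => φ t)
      (map_zsmul (mulHom η A B).hom r p)).trans rfl

theorem mul_germ {V : X.Etale} (y : (Scheme.pointSmallEtale η).fiber.obj V) (a : A.obj (op V)) (b : B.obj (op V)) :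
    mul η A B (germ η y a ⊗ₜ[ℤ] germ η y b) = germ η (P := EtTens.tensorObj A B) y (a ⊗ₜ[ℤ] b) := by
  show (mulHom η A B (germ η y a) : Fib η B →+ _) (germ η y b) = _
  refine (congrArg (fun φ : Fib η B →+ Fib η (EtTens.tensorObj A B) => φ (germ η y b)) (ConcreteCategory.congr_hom
    (GrothendieckTopology.Point.toPresheafFiber_presheafFiberDesc (Scheme.pointSmallEtale η) (P := A) _ _ V y) a)).trans ?_
  refine (mulRep_germ η A B y a y b).trans ?_
  rw [prod₀_eq η A B (Functor.elementsMk _ V y) (𝟙 _) (𝟙 _)]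
  show germ η (P := EtTens.tensorObj A B) y (A.map (𝟙 V).op a ⊗ₜ[ℤ] B.map (𝟙 V).op b) = _
  simp

/-- The comparison in the other direction. -/
noncomputable def split : Fib η (EtTens.tensorObj A B) ⟶ AddCommGrpCat.of (Fib η A ⊗[ℤ] Fib η B) :=
  (Scheme.pointSmallEtale η).presheafFiberDesc (P := EtTens.tensorObj A B)
    (fun V y => AddCommGrpCat.ofHom
      (TensorProduct.map (germ η (P := A) y).toIntLinearMap (germ η (P := B) y).toIntLinearMap).toAddMonoidHom)
    fun V' V g y => EtTens.hom_ext_tmul fun a b => by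
      show (germ η y (A.map g.op a)) ⊗ₜ[ℤ] (germ η y (B.map g.op b)) = _
      rw [germ_map, germ_map]
      rfl

theorem split_germ {V : X.Etale} (y : (Scheme.pointSmallEtale η).fiber.obj V) (a : A.obj (op V)) (b : B.obj (op V)) :
    split η A B (germ η (P := EtTens.tensorObj A B) y (a ⊗ₜ[ℤ] b)) = germ η y a ⊗ₜ[ℤ] germ η y b :=
  ConcreteCategory.congr_hom (GrothendieckTopology.Point.toPresheafFiber_presheafFiberDesc
    (Scheme.pointSmallEtale η) (P := EtTens.tensorObj A B) _ _ V y) (a ⊗ₜ[ℤ] b)

theorem bijective_mul : Function.Bijective (mul η A B) := by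
  refine ⟨Function.LeftInverse.injective (g := split η A B) fun x => ?_, fun t => ?_⟩
  · induction x using TensorProduct.induction_on with
    | zero => rw [map_zero, map_zero]
    | add x x' hx hx' => rw [map_add, map_add, hx, hx']
    | tmul p t =>
      obtain ⟨V, y, a, rfl⟩ := (Scheme.pointSmallEtale η).toPresheafFiber_jointly_surjective p
      obtain ⟨W, z, b, rfl⟩ := (Scheme.pointSmallEtale η).toPresheafFiber_jointly_surjective t
      obtain ⟨c, ⟨p⟩, ⟨q⟩⟩ := exists_refine η y z
      show split η A B (mul η A B (germ η y a ⊗ₜ[ℤ] germ η z b)) = germ η y a ⊗ₜ[ℤ] germ η z b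
      rw [show germ η y a = germ η c.2 (A.map p.val.op a) from
          ((germ_map η p.val c.2 a).trans (congrArg (fun t => germ η t a) p.2)).symm,
        show germ η z b = germ η c.2 (B.map q.val.op b) from
          ((germ_map η q.val c.2 b).trans (congrArg (fun t => germ η t b) q.2)).symm,
        mul_germ, split_germ]
  · obtain ⟨V, y, w, rfl⟩ := (Scheme.pointSmallEtale η).toPresheafFiber_jointly_surjective t
    show ∃ x, mul η A B x = germ η (P := EtTens.tensorObj A B) y w
    induction w using TensorProduct.induction_on with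
    | zero => exact ⟨0, (map_zero _).trans (map_zero _).symm⟩
    | add w w' hw hw' =>
      obtain ⟨x, hx⟩ := hw
      obtain ⟨x', hx'⟩ := hw'
      exact ⟨x + x', (map_add _ _ _).trans ((congrArg₂ (· + ·) hx hx').trans (map_add _ _ _).symm)⟩
    | tmul a b => exact ⟨_, mul_germ η A B y a b⟩

/-- Additive maps out of the fibre of a tensor product agree if they do so on germs of pure tensors. -/
theorem hom_ext_germ {M : Type (u + 1)} [AddCommGroup M] {φ ψ : Fib η (EtTens.tensorObj A B) →+ M}
    (h : ∀ (V : X.Etale) (y : (Scheme.pointSmallEtale η).fiber.obj V) (a : A.obj (op V)) (b : B.obj (op V)),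
      φ (germ η (P := EtTens.tensorObj A B) y (a ⊗ₜ[ℤ] b)) = ψ (germ η (P := EtTens.tensorObj A B) y (a ⊗ₜ[ℤ] b))) :
    φ = ψ := by
  refine AddMonoidHom.ext fun t => ?_
  obtain ⟨V, y, w, rfl⟩ := (Scheme.pointSmallEtale η).toPresheafFiber_jointly_surjective t
  show φ (germ η (P := EtTens.tensorObj A B) y w) = ψ (germ η (P := EtTens.tensorObj A B) y w)
  induction w using TensorProduct.induction_on with
  | zero => exact (congrArg φ (map_zero _)).trans ((map_zero φ).trans ((congrArg ψ (map_zero _)).trans (map_zero ψ)).symm)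
  | add w w' hw hw' =>
    exact (congrArg φ (map_add _ _ _)).trans ((map_add φ _ _).trans ((congrArg₂ (· + ·) hw hw').trans
      ((congrArg ψ (map_add _ _ _)).trans (map_add ψ _ _)).symm))
  | tmul a b => exact h V y a b

end Groth.L27.TensorFibre
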