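import Groth.Agent.L27.Tensor.Fibre
import Groth.Agent.L27.ExtZero.LqfStalk
import Groth.Agent.L27.EtSite.EtaLocal

/-! # Projection formula for direct images with proper support, locally quasi-finite case -/

universe u

open CategoryTheory CategoryTheory.Limits AlgebraicGeometry Opposite TensorProduct

set_option backward.isDefEq.respectTransparency.types false
set_option linter.style.haveILetI false
set_option linter.unusedSectionVars false
set_option linter.unusedVariables false

namespace Groth.L27.Projection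

open EtSite.BC (P eta)
open TensorFibre (Fib germ)

variable {X Y : Scheme.{u}} (f : X ⟶ Y) (F : EtCoh.Ab X) (G : EtCoh.Ab Y)

/-- `F ⊗ f⁻¹ G`. -/
noncomputable abbrev target : EtCoh.Ab X := (EtTens.tensorBi.obj F).obj ((EtCoh.pull f).obj G)

/-- Sheafification of the pointwise tensor product. -/
noncomputable abbrev unitT : EtTens.tensorObj F.obj (P f G).obj ⟶ (target f F G).obj :=
  toSheafify X.smallEtaleTopology (EtTens.tensorObj F.obj (P f G).obj)

/-- The product of a section with proper support and a section downstairs, as a section. -/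
noncomputable def pre : EtTens.tensorObj (EtShriek.lowerShriekPre f F) G.obj ⟶
    ((EtCoh.push f).obj (target f F G)).obj :=
  EtTens.tensorHom (EtShriek.lowerShriekPreι f F)
      (((EtCoh.bc f).sheafAdjunctionContinuous AddCommGrpCat.{u + 1} Y.smallEtaleTopology
        X.smallEtaleTopology).unit.app G).hom ≫
    Functor.whiskerLeft (EtCoh.bc f).op (unitT f F G)

theorem pre_tmul (V : Y.Etale) (s : EtShriek.shriekSubgroup f F V) (x : G.obj.obj (op V)) :
    (pre f F G).app (op V) (s ⊗ₜ[ℤ] x) =
      (unitT f F G).app (op ((EtCoh.bc f).obj V)) (s.1 ⊗ₜ[ℤ] eta f G V x) := rfl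

theorem supp_tmul (U : X.Etale) (s : F.obj.obj (op U)) (b : (P f G).obj.obj (op U)) :
    EtShriek.sectSupp (target f F G) U ((unitT f F G).app (op U) (s ⊗ₜ[ℤ] b)) ⊆ EtShriek.sectSupp F U s := by
  intro x hx W g hg h0
  refine hx W g hg ?_
  refine (NatTrans.naturality_apply (unitT f F G) g.op (s ⊗ₜ[ℤ] b)).symm.trans ?_
  rw [EtTens.tensorObj_map_tmul, h0, TensorProduct.zero_tmul]
  exact map_zero _

variable [LocallyOfFiniteType f]

theorem pre_mem (V : Y.Etale) (t : (EtTens.tensorObj (EtShriek.lowerShriekPre f F) G.obj).obj (op V)) :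
    (pre f F G).app (op V) t ∈ EtShriek.shriekSubgroup f (target f F G) V := by
  change EtShriek.shriekSubgroup f F V ⊗[ℤ] G.obj.obj (op V) at t
  induction t using TensorProduct.induction_on with
  | zero => exact (map_zero ((pre f F G).app (op V)).hom).symm ▸ zero_mem _
  | add a b ha hb => exact (map_add ((pre f F G).app (op V)).hom a b).symm ▸ add_mem ha hb
  | tmul s x =>
    refine (Supp.mem_shriekSubgroup_iff f _ _).2 ?_
    exact Supp.isProperOver_of_subset _ (Supp.isClosed_supp _ _)
      ((pre_tmul f F G V s x).symm ▸ supp_tmul f F G _ _ _) ((Supp.mem_shriekSubgroup_iff f F s.1).1 s.2)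

/-- The product of a section with proper support and a section downstairs. -/
noncomputable def beta : EtTens.tensorObj (EtShriek.lowerShriekPre f F) G.obj ⟶
    EtShriek.lowerShriekPre f (target f F G) where
  app V := AddCommGrpCat.ofHom (((pre f F G).app V).hom.codRestrict (EtShriek.shriekSubgroup f (target f F G) V.unop)
    (pre_mem f F G V.unop))
  naturality V W i := ConcreteCategory.hom_ext _ _ fun t =>
    Subtype.ext (NatTrans.naturality_apply (pre f F G) i t)

theorem beta_val (V : Y.Etale) (s : EtShriek.shriekSubgroup f F V) (x : G.obj.obj (op V)) :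
    ((beta f F G).app (op V) (s ⊗ₜ[ℤ] x) : EtShriek.shriekSubgroup f (target f F G) V).1 =
      (unitT f F G).app (op ((EtCoh.bc f).obj V)) (s.1 ⊗ₜ[ℤ] eta f G V x) := rfl

section Lift

variable {K : Type u} [Field K] [IsAlgClosed K] (θ : Spec (CommRingCat.of K) ⟶ Y) (v : Lqf.Lift f θ)

/-- The stalk of the inverse image at a lift. -/
noncomputable def tr : Fib θ G.obj ⟶ Fib v.1 (P f G).obj :=
  (Scheme.pointSmallEtale θ).presheafFiberDesc (P := G.obj)
    (fun V y => eta f G V ≫
      (Scheme.pointSmallEtale v.1).toPresheafFiber ((EtCoh.bc f).obj V) (EtSite.PushFinite.pt f v V y) (P f G).obj)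
    fun V W a y => ConcreteCategory.hom_ext _ _ fun x => by
      show germ v.1 (EtSite.PushFinite.pt f v V y) (eta f G V (G.obj.map a.op x)) = germ v.1 _ (eta f G W x)
      rw [EtSite.BC.eta_naturality, TensorFibre.germ_map, EtSite.PushFinite.map_pt]

theorem tr_germ (V : Y.Etale) (y : (Scheme.pointSmallEtale θ).fiber.obj V) (x : G.obj.obj (op V)) :
    tr f G θ v (germ θ y x) = germ v.1 (EtSite.PushFinite.pt f v V y) (eta f G V x) :=
  ConcreteCategory.congr_hom (GrothendieckTopology.Point.toPresheafFiber_presheafFiberDesc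
    (Scheme.pointSmallEtale θ) (P := G.obj) _ _ V y) x

theorem exists_pt (U : Y.Etale) (u : (Scheme.pointSmallEtale v.1).fiber.obj ((EtCoh.bc f).obj U)) :
    ∃ y, EtSite.PushFinite.pt f v U y = u :=
  ⟨Over.homMk (u.left ≫ pullback.fst U.hom f) ((Category.assoc _ _ _).trans
      ((congrArg (u.left ≫ ·) pullback.condition).trans ((Category.assoc _ _ _).symm.trans
        ((congrArg (· ≫ f) (Over.w u)).trans v.2)))),
    Over.OverMorphism.ext (pullback.hom_ext (pullback.lift_fst _ _ _)
      ((pullback.lift_snd _ _ _).trans (Over.w u).symm))⟩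

theorem pt_injective (U : Y.Etale) : Function.Injective (EtSite.PushFinite.pt f v U) := fun y y' h =>
  Over.OverMorphism.ext ((pullback.lift_fst _ _ _).symm.trans
    ((congrArg (fun q : Over.mk v.1 ⟶ _ => q.left ≫ pullback.fst U.hom f) h).trans (pullback.lift_fst _ _ _)))

theorem bijective_tr : Function.Bijective (tr f G θ v) := by
  let Φ := Scheme.pointSmallEtale v.1
  let Ψ := Φ.comap (EtCoh.bc f) (EtCoh.coverPreserving_bc f)
  have hiso := ConcreteCategory.bijective_of_isIso
    ((Φ.sheafFiberComapIso (EtCoh.bc f) (EtCoh.coverPreserving_bc f) AddCommGrpCat.{u + 1}).hom.app G)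
  refine ⟨(injective_iff_map_eq_zero (tr f G θ v).hom).2 fun p hp => ?_, fun q => ?_⟩
  · obtain ⟨V, y, x, rfl⟩ := (Scheme.pointSmallEtale θ).toPresheafFiber_jointly_surjective (P := G.obj) p
    have h1 : Φ.toPresheafFiber _ (EtSite.PushFinite.pt f v V y) (P f G).obj (eta f G V x) =
        Φ.toPresheafFiber _ (EtSite.PushFinite.pt f v V y) (P f G).obj (eta f G V 0) :=
      (tr_germ f G θ v V y x).symm.trans (hp.trans ((congrArg (Φ.toPresheafFiber _ _ (P f G).obj) (map_zero _)).trans
        (map_zero _)).symm)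
    rw [← EtSite.EtaLocal.key, ← EtSite.EtaLocal.key] at h1
    obtain ⟨W, b, e, he, hb⟩ := (Ψ.toPresheafFiber_eq_iff' _ _ _ _).1 (hiso.1 h1)
    obtain ⟨y', hy'⟩ := exists_pt f θ v W e
    have hy : (Scheme.pointSmallEtale θ).fiber.map b y' = y := pt_injective f θ v V (by
      rw [← EtSite.PushFinite.map_pt, hy']
      exact he)
    show germ θ y x = 0
    rw [← hy, ← TensorFibre.germ_map]
    exact (congrArg (germ θ y') (hb.trans (map_zero _))).trans (map_zero _)
  · obtain ⟨p, hp⟩ := hiso.2 q
    obtain ⟨U, u', σ, rfl⟩ := Ψ.toPresheafFiber_jointly_surjective (P := G.obj) p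
    rw [EtSite.EtaLocal.key] at hp
    obtain ⟨y, rfl⟩ := exists_pt f θ v U u'
    exact ⟨germ θ y σ, (tr_germ f G θ v U y σ).trans hp⟩

/-- The stalk of the tensor product at a lift. -/
noncomputable def psiV : Fib v.1 F.obj ⊗[ℤ] Fib θ G.obj →+ (EtCoh.stalk v.1).obj (target f F G) :=
  (((Scheme.pointSmallEtale v.1).presheafFiber (A := AddCommGrpCat.{u + 1})).map (unitT f F G)).hom.comp
    ((TensorFibre.mul v.1 F.obj (P f G).obj).comp
      (TensorProduct.map LinearMap.id (tr f G θ v).hom.toIntLinearMap).toAddMonoidHom)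

theorem psiV_germ (V : Y.Etale) (y : (Scheme.pointSmallEtale θ).fiber.obj V)
    (s : F.obj.obj (op ((EtCoh.bc f).obj V))) (x : G.obj.obj (op V)) :
    psiV f F G θ v (germ v.1 (EtSite.PushFinite.pt f v V y) s ⊗ₜ[ℤ] germ θ y x) =
      germ v.1 (EtSite.PushFinite.pt f v V y) ((unitT f F G).app (op _) (s ⊗ₜ[ℤ] eta f G V x)) := by
  show ((Scheme.pointSmallEtale v.1).presheafFiber (A := AddCommGrpCat.{u + 1})).map (unitT f F G)
    (TensorFibre.mul v.1 F.obj (P f G).obj (germ v.1 (EtSite.PushFinite.pt f v V y) s ⊗ₜ[ℤ] tr f G θ v (germ θ y x))) = _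
  rw [tr_germ, TensorFibre.mul_germ]
  exact GrothendieckTopology.Point.toPresheafFiber_naturality_apply
    (Φ := Scheme.pointSmallEtale v.1) (unitT f F G) _ _ _

theorem bijective_psiV : Function.Bijective (psiV f F G θ v) := by
  have h1 : Function.Bijective (((Scheme.pointSmallEtale v.1).presheafFiber (A := AddCommGrpCat.{u + 1})).map
      (unitT f F G)) := (ConcreteCategory.isIso_iff_bijective _).1
    ((Scheme.pointSmallEtale v.1).W_isInvertedBy_presheafFiber _ (GrothendieckTopology.W_toSheafify _ _))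
  let e := LinearEquiv.ofBijective (tr f G θ v).hom.toIntLinearMap (bijective_tr f G θ v)
  exact h1.comp ((TensorFibre.bijective_mul v.1 F.obj (P f G).obj).comp
    (TensorProduct.congr (LinearEquiv.refl ℤ (Fib v.1 F.obj)) e).bijective)

end Lift

section Stalk

variable [IsSeparated f] [LocallyQuasiFinite f] {K : Type u} [Field K] [IsAlgClosed K]
  (θ : Spec (CommRingCat.of K) ⟶ Y)

/-- The projection map on germs. -/
noncomputable def betaFib : Fib θ (EtShriek.lowerShriekPre f F) ⊗[ℤ] Fib θ G.obj →+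
    Fib θ (EtShriek.lowerShriekPre f (target f F G)) :=
  (((Scheme.pointSmallEtale θ).presheafFiber (A := AddCommGrpCat.{u + 1})).map (beta f F G)).hom.comp
    (TensorFibre.mul θ (EtShriek.lowerShriekPre f F) G.obj)

theorem retrL_betaFib (v : Lqf.Lift f θ) (p : Fib θ (EtShriek.lowerShriekPre f F)) (g : Fib θ G.obj) :
    Lqf.retrL f θ (target f F G) v (betaFib f F G θ (p ⊗ₜ[ℤ] g)) =
      psiV f F G θ v (Lqf.retrL f θ F v p ⊗ₜ[ℤ] g) := by
  obtain ⟨V₁, y₁, a, rfl⟩ := (Scheme.pointSmallEtale θ).toPresheafFiber_jointly_surjective p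
  obtain ⟨W, z, x, rfl⟩ := (Scheme.pointSmallEtale θ).toPresheafFiber_jointly_surjective (P := G.obj) g
  obtain ⟨⟨V, y⟩, ⟨i⟩, ⟨j⟩⟩ := TensorFibre.exists_refine θ y₁ z
  show Lqf.retrL f θ (target f F G) v (betaFib f F G θ (germ θ y₁ a ⊗ₜ[ℤ] germ θ z x)) =
    psiV f F G θ v (Lqf.retrL f θ F v (germ θ y₁ a) ⊗ₜ[ℤ] germ θ z x)
  rw [show germ θ y₁ a = germ θ y ((EtShriek.lowerShriekPre f F).map i.val.op a) from
      ((TensorFibre.germ_map θ i.val y a).trans (congrArg (fun t => germ θ t a) i.2)).symm,
    show germ θ z x = germ θ y (G.obj.map j.val.op x) from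
      ((TensorFibre.germ_map θ j.val y x).trans (congrArg (fun t => germ θ t x) j.2)).symm]
  let s : EtShriek.shriekSubgroup f F V := (EtShriek.lowerShriekPre f F).map i.val.op a
  refine (congrArg (Lqf.retrL f θ (target f F G) v) ((congrArg (((Scheme.pointSmallEtale θ).presheafFiber
    (A := AddCommGrpCat.{u + 1})).map (beta f F G)) (TensorFibre.mul_germ θ (EtShriek.lowerShriekPre f F) G.obj y s _)).trans
      (GrothendieckTopology.Point.toPresheafFiber_naturality_apply (Φ := Scheme.pointSmallEtale θ) (beta f F G) V y _))).trans ?_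
  refine (Lqf.retrL_germ f θ _ v V y _).trans ?_
  refine Eq.trans ?_ (congrArg (fun t => psiV f F G θ v (t ⊗ₜ[ℤ] germ θ y _)) (Lqf.retrL_germ f θ F v V y s)).symm
  refine Eq.trans ?_ (psiV_germ f F G θ v V y s.1 _).symm
  exact congrArg _ (beta_val f F G V s _)

/-- The component of a tensor at a lift. -/
noncomputable def comp' (v : Lqf.Lift f θ) :
    Fib θ (EtShriek.lowerShriekPre f F) ⊗[ℤ] Fib θ G.obj →ₗ[ℤ] Fib v.1 F.obj ⊗[ℤ] Fib θ G.obj :=
  TensorProduct.map (Lqf.retrL f θ F v).hom.toIntLinearMap LinearMap.id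

/-- A tensor concentrated at a lift. -/
noncomputable def incl' (v : Lqf.Lift f θ) :
    Fib v.1 F.obj ⊗[ℤ] Fib θ G.obj →ₗ[ℤ] Fib θ (EtShriek.lowerShriekPre f F) ⊗[ℤ] Fib θ G.obj :=
  TensorProduct.map (Lqf.singleHom f θ F v).hom.toIntLinearMap LinearMap.id

theorem retrL_betaFib' (v : Lqf.Lift f θ) (z : Fib θ (EtShriek.lowerShriekPre f F) ⊗[ℤ] Fib θ G.obj) :
    Lqf.retrL f θ (target f F G) v (betaFib f F G θ z) = psiV f F G θ v (comp' f F G θ v z) := by
  induction z using TensorProduct.induction_on with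
  | zero => simp only [map_zero]
  | add a b ha hb => simp only [map_add, ha, hb]
  | tmul p g => exact retrL_betaFib f F G θ v p g

theorem decompose (z : Fib θ (EtShriek.lowerShriekPre f F) ⊗[ℤ] Fib θ G.obj) :
    ∃ S : Finset (Lqf.Lift f θ), ∀ S', S ⊆ S' → z = ∑ v ∈ S', incl' f F G θ v (comp' f F G θ v z) := by
  classical
  induction z using TensorProduct.induction_on with
  | zero => exact ⟨∅, fun S' _ => by simp only [map_zero, Finset.sum_const_zero]⟩
  | add a b ha hb =>
    obtain ⟨S, hS⟩ := ha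
    obtain ⟨T, hT⟩ := hb
    refine ⟨S ∪ T, fun S' h => ?_⟩
    simp only [map_add, Finset.sum_add_distrib]
    rw [← hS S' (Finset.union_subset_left h), ← hT S' (Finset.union_subset_right h)]
  | tmul p g =>
    refine ⟨(Lqf.finite_retrL f θ F p).toFinset, fun S' h => ?_⟩
    show p ⊗ₜ[ℤ] g = ∑ v ∈ S', (Lqf.singleHom f θ F v (Lqf.retrL f θ F v p)) ⊗ₜ[ℤ] g
    rw [← TensorProduct.sum_tmul]
    refine congrArg (· ⊗ₜ[ℤ] g) (Lqf.ext_retrL f θ F fun w => ?_)
    rw [map_sum, Finset.sum_eq_single w (fun v _ hv => ?_) (fun hw => ?_)]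
    · exact (Lqf.retrL_single f θ F w _).symm
    · exact Lqf.retrL_single_ne f θ F (Ne.symm hv) _
    · refine (Lqf.retrL_single f θ F w _).trans ?_
      by_contra hne
      exact hw (h ((Set.Finite.mem_toFinset _).2 hne))

theorem bijective_betaFib : Function.Bijective (betaFib f F G θ) := by
  classical
  refine ⟨(injective_iff_map_eq_zero (betaFib f F G θ)).2 fun z hz => ?_, fun q => ?_⟩
  · obtain ⟨S, hS⟩ := decompose f F G θ z
    refine (hS S subset_rfl).trans (Finset.sum_eq_zero fun v _ => ?_)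
    have h0 : psiV f F G θ v (comp' f F G θ v z) = 0 := by
      rw [← retrL_betaFib', hz]
      exact map_zero (Lqf.retrL f θ (target f F G) v).hom
    rw [(bijective_psiV f F G θ v).1 (h0.trans (map_zero _).symm), map_zero]
  · let S := (Lqf.finite_retrL f θ (target f F G) q).toFinset
    choose a ha using fun v : Lqf.Lift f θ => (bijective_psiV f F G θ v).2 (Lqf.retrL f θ (target f F G) v q)
    refine ⟨∑ v ∈ S, incl' f F G θ v (a v), Lqf.ext_retrL f θ (target f F G) fun w => ?_⟩
    rw [retrL_betaFib', map_sum, map_sum]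
    have hsingle : ∀ (v : Lqf.Lift f θ) (z : Fib v.1 F.obj ⊗[ℤ] Fib θ G.obj), v ≠ w →
        comp' f F G θ w (incl' f F G θ v z) = 0 := fun v z hv => by
      induction z using TensorProduct.induction_on with
      | zero => simp only [map_zero]
      | add s t hs ht => simp only [map_add, hs, ht, add_zero]
      | tmul s g =>
        show Lqf.retrL f θ F w (Lqf.single f θ F v s) ⊗ₜ[ℤ] g = 0
        rw [Lqf.retrL_single_ne f θ F (Ne.symm hv), TensorProduct.zero_tmul]
    have hself : ∀ z, comp' f F G θ w (incl' f F G θ w z) = z := fun z => by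
      induction z using TensorProduct.induction_on with
      | zero => simp only [map_zero]
      | add s t hs ht => simp only [map_add, hs, ht]
      | tmul s g =>
        exact congrArg (· ⊗ₜ[ℤ] g) (Lqf.retrL_single f θ F w s)
    rw [Finset.sum_eq_single w (fun v _ hv => by rw [hsingle v _ hv, map_zero]) (fun hw => ?_), hself, ha]
    rw [hself, ha]
    by_contra hne
    exact hw ((Set.Finite.mem_toFinset _).2 hne)

theorem bijective_fiber_beta : Function.Bijective
    (((Scheme.pointSmallEtale θ).presheafFiber (A := AddCommGrpCat.{u + 1})).map (beta f F G)) :=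
  (Function.Bijective.of_comp_iff _ (TensorFibre.bijective_mul θ (EtShriek.lowerShriekPre f F) G.obj)).1
    (bijective_betaFib f F G θ)

end Stalk

variable [IsSeparated f] [LocallyQuasiFinite f]

/-- The projection map. -/
noncomputable def alpha : (EtTens.tensorBi.obj (Supp.shriekSheaf f F)).obj G ⟶ Supp.shriekSheaf f (target f F G) :=
  ((sheafificationAdjunction Y.smallEtaleTopology AddCommGrpCat.{u + 1}).homEquiv _ _).symm (beta f F G)

theorem toSheafify_alpha :
    toSheafify Y.smallEtaleTopology (EtTens.tensorObj (EtShriek.lowerShriekPre f F) G.obj) ≫ (alpha f F G).hom =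
      beta f F G :=
  (Adjunction.homEquiv_unit (sheafificationAdjunction Y.smallEtaleTopology AddCommGrpCat.{u + 1})
    (EtTens.tensorObj (EtShriek.lowerShriekPre f F) G.obj) (Supp.shriekSheaf f (target f F G)) (alpha f F G)).symm.trans
      (Equiv.apply_symm_apply _ _)

theorem isIso_alpha : IsIso (alpha f F G) := by
  refine Lqf.isIso_of_algClosed_stalks _ fun K _ _ θ => ?_
  let Φ := (Scheme.pointSmallEtale θ).presheafFiber (A := AddCommGrpCat.{u + 1})
  haveI := (Scheme.pointSmallEtale θ).W_isInvertedBy_presheafFiber (A := AddCommGrpCat.{u + 1}) _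
    (GrothendieckTopology.W_toSheafify Y.smallEtaleTopology (EtTens.tensorObj (EtShriek.lowerShriekPre f F) G.obj))
  have h : IsIso (Φ.map (toSheafify Y.smallEtaleTopology (EtTens.tensorObj (EtShriek.lowerShriekPre f F) G.obj)) ≫
      Φ.map (alpha f F G).hom) := by
    rw [← Φ.map_comp, toSheafify_alpha]
    exact (ConcreteCategory.isIso_iff_bijective _).2 (bijective_fiber_beta f F G θ)
  haveI := h
  exact @IsIso.of_isIso_comp_left _ _ _ _ _ (Φ.map (toSheafify Y.smallEtaleTopology
    (EtTens.tensorObj (EtShriek.lowerShriekPre f F) G.obj))) (Φ.map (alpha f F G).hom) _ h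

/-- The projection formula. -/
noncomputable def projectionIso : (EtTens.tensorBi.obj ((EtShriek.lowerShriek f).obj F)).obj G ≅
    (EtShriek.lowerShriek f).obj (target f F G) :=
  (EtTens.tensorBi.mapIso ((Supp.shriekFunctorIso f).app F).symm).app G ≪≫
    @asIso _ _ _ _ (alpha f F G) (isIso_alpha f F G) ≪≫ (Supp.shriekFunctorIso f).app _

end Groth.L27.Projection
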